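import Cfsg.Agent.H439.CC.Defs
import Cfsg.Agent.H617.EqD.CoL

/-!
# S4884, classical groups in cross characteristic: chains (helper675)

* `sum_coL` : `∑_K coL ds K = 1`; `mem_of_coL_ne_zero` : `coL ds K ≠ 0 → ds.sum ∈ K`;
* `fl_congr` : `fl` and order isomorphisms;
* `fl_modEq` : fixed points of `q`-groups.
-/

set_option autoImplicit false

namespace Cfsg.Agent.H675.CC

open Cfsg.Agent.H439.CC Finset

/-! ### Coefficients -/

theorem coL_nil (K : Finset ℕ) : coL [] K = if K = ∅ then 1 else 0 := rfl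

theorem coL_cons_of_mem {k : ℕ} {ds : List ℕ} {K : Finset ℕ} (h : k ∈ K) :
    coL (k :: ds) K = (-1) ^ ((K.filter fun x => x < k).card) * (K.min' ⟨k, h⟩ : ℤ) *
      coL ds ((K.filter fun x => k < x).image fun x => x - k) := by
  rw [coL, dif_pos h]

theorem coL_cons_of_notMem {k : ℕ} {ds : List ℕ} {K : Finset ℕ} (h : k ∉ K) : coL (k :: ds) K = 0 := by
  rw [coL, dif_neg h]

/-- the number of `j ∈ [1, k]` below all elements of `K₁` -/
theorem min'_eq {k : ℕ} (hk : 1 ≤ k) {K : Finset ℕ} (h : k ∈ K) (h1 : ∀ x ∈ K, 1 ≤ x) :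
    ((K.min' ⟨k, h⟩ : ℕ) : ℤ) = ∑ j ∈ Icc 1 k, if (K.filter fun x => x < k) ⊆ Icc j (k - 1) then (1 : ℤ) else 0 := by
  set m := K.min' ⟨k, h⟩ with hm
  have hmk : m ≤ k := K.min'_le k h
  have hm1 : 1 ≤ m := h1 m (K.min'_mem _)
  rw [Finset.sum_ite, Finset.sum_const_zero, add_zero, Finset.sum_const, nsmul_eq_mul, mul_one]
  congr 1
  have : (Icc 1 k).filter (fun j => (K.filter fun x => x < k) ⊆ Icc j (k - 1)) = Icc 1 m := by
    ext j
    rw [mem_filter, mem_Icc, mem_Icc]
    constructor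
    · rintro ⟨⟨h2, h3⟩, h4⟩
      refine ⟨h2, ?_⟩
      by_contra hlt
      push Not at hlt
      have h5 : m ∈ K.filter fun x => x < k := mem_filter.2 ⟨K.min'_mem _, by omega⟩
      have h6 := mem_Icc.1 (h4 h5)
      omega
    · rintro ⟨h2, h3⟩
      refine ⟨⟨h2, h3.trans hmk⟩, fun x hx => ?_⟩
      rw [mem_filter] at hx
      have h5 := K.min'_le x hx.1
      rw [mem_Icc]
      omega
  rw [this, Nat.card_Icc]
  omega

/-- `∑_{K₁ ⊆ [1, k-1]} (-1)^|K₁| #{j ∈ [1, k] | K₁ ⊆ [j, k-1]} = 1` -/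
theorem sum_min {k : ℕ} (hk : 1 ≤ k) :
    ∑ K₁ ∈ (Icc 1 (k - 1)).powerset, (-1 : ℤ) ^ K₁.card * ∑ j ∈ Icc 1 k, (if K₁ ⊆ Icc j (k - 1) then (1 : ℤ) else 0) = 1 := by
  have h1 : ∀ K₁ ∈ (Icc 1 (k - 1)).powerset,
      (-1 : ℤ) ^ K₁.card * ∑ j ∈ Icc 1 k, (if K₁ ⊆ Icc j (k - 1) then (1 : ℤ) else 0) =
      ∑ j ∈ Icc 1 k, if K₁ ⊆ Icc j (k - 1) then (-1 : ℤ) ^ K₁.card else 0 := by
    intro K₁ _
    rw [Finset.mul_sum]
    apply Finset.sum_congr rfl
    intro j _
    split_ifs <;> simp
  rw [Finset.sum_congr rfl h1, Finset.sum_comm]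
  have h2 : ∀ j ∈ Icc 1 k, ∑ K₁ ∈ (Icc 1 (k - 1)).powerset, (if K₁ ⊆ Icc j (k - 1) then (-1 : ℤ) ^ K₁.card else 0) =
      if j = k then 1 else 0 := by
    intro j hj
    rw [mem_Icc] at hj
    rw [← Finset.sum_filter]
    have h3 : (Icc 1 (k - 1)).powerset.filter (fun K₁ => K₁ ⊆ Icc j (k - 1)) = (Icc j (k - 1)).powerset := by
      ext K₁
      rw [mem_filter, mem_powerset, mem_powerset]
      constructor
      · exact fun h => h.2
      · intro h
        refine ⟨h.trans ?_, h⟩
        intro x hx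
        rw [mem_Icc] at hx ⊢
        omega
    rw [h3, Finset.sum_powerset_neg_one_pow_card]
    have h4 : Icc j (k - 1) = ∅ ↔ j = k := by
      rw [Finset.Icc_eq_empty_iff]
      omega
    simp only [h4]
  rw [Finset.sum_congr rfl h2, Finset.sum_ite_eq', if_pos (mem_Icc.2 ⟨hk, le_rfl⟩)]

/-- splitting a set of ranks containing `k` -/
theorem sum_split {k s : ℕ} (hk : 1 ≤ k) (G H : Finset ℕ → ℤ) :
    ∑ K ∈ (Icc 1 (k + s)).powerset.filter (fun K => k ∈ K), G (K.filter fun x => x < k) *
        H ((K.filter fun x => k < x).image fun x => x - k) =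
      (∑ K₁ ∈ (Icc 1 (k - 1)).powerset, G K₁) * ∑ K₂ ∈ (Icc 1 s).powerset, H K₂ := by
  rw [Finset.sum_mul_sum, ← Finset.sum_product']
  refine Finset.sum_bij' (fun K _ => (K.filter fun x => x < k, (K.filter fun x => k < x).image fun x => x - k))
    (fun p _ => p.1 ∪ {k} ∪ p.2.image fun x => x + k) ?_ ?_ ?_ ?_ ?_
  · intro K hK
    rw [mem_filter, mem_powerset] at hK
    rw [mem_product, mem_powerset, mem_powerset]
    constructor
    · intro x hx
      rw [mem_filter] at hx
      have := mem_Icc.1 (hK.1 hx.1)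
      rw [mem_Icc]
      omega
    · intro y hy
      rw [mem_image] at hy
      obtain ⟨x, hx, rfl⟩ := hy
      rw [mem_filter] at hx
      have := mem_Icc.1 (hK.1 hx.1)
      rw [mem_Icc]
      omega
  · rintro ⟨K₁, K₂⟩ hp
    rw [mem_product, mem_powerset, mem_powerset] at hp
    rw [mem_filter, mem_powerset]
    constructor
    · intro x hx
      rw [mem_union, mem_union, mem_singleton, mem_image] at hx
      rw [mem_Icc]
      rcases hx with (hx | rfl) | ⟨y, hy, rfl⟩
      · have := mem_Icc.1 (hp.1 hx)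
        omega
      · omega
      · have := mem_Icc.1 (hp.2 hy)
        omega
    · rw [mem_union, mem_union, mem_singleton]
      exact Or.inl (Or.inr rfl)
  · intro K hK
    rw [mem_filter, mem_powerset] at hK
    ext x
    rw [mem_union, mem_union, mem_singleton, mem_image, mem_filter]
    constructor
    · rintro ((hx | rfl) | ⟨y, hy, rfl⟩)
      · exact hx.1
      · exact hK.2
      · rw [mem_image] at hy
        obtain ⟨z, hz, rfl⟩ := hy
        rw [mem_filter] at hz
        have : z - k + k = z := by omega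
        rw [this]
        exact hz.1
    · intro hx
      rcases lt_trichotomy x k with h | h | h
      · exact Or.inl (Or.inl ⟨hx, h⟩)
      · exact Or.inl (Or.inr h)
      · refine Or.inr ⟨x - k, mem_image.2 ⟨x, mem_filter.2 ⟨hx, h⟩, rfl⟩, by omega⟩
  · rintro ⟨K₁, K₂⟩ hp
    rw [mem_product, mem_powerset, mem_powerset] at hp
    refine Prod.ext ?_ ?_
    · ext x
      simp only [mem_filter, mem_union, mem_singleton, mem_image]
      constructor
      · rintro ⟨(hx | rfl) | ⟨y, hy, rfl⟩, h⟩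
        · exact hx
        · omega
        · omega
      · intro hx
        have := mem_Icc.1 (hp.1 hx)
        exact ⟨Or.inl (Or.inl hx), by omega⟩
    · ext x
      simp only [mem_filter, mem_union, mem_singleton, mem_image]
      constructor
      · rintro ⟨z, ⟨(hz | rfl) | ⟨y, hy, rfl⟩, h⟩, rfl⟩
        · have := mem_Icc.1 (hp.1 hz)
          omega
        · omega
        · rwa [Nat.add_sub_cancel]
      · intro hx
        have := mem_Icc.1 (hp.2 hx)
        exact ⟨x + k, ⟨Or.inr ⟨x, hx, rfl⟩, by omega⟩, by omega⟩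
  · intro K _
    rfl

/-- **`∑_K coL ds K = 1`** -/
theorem sum_coL {ds : List ℕ} (hds : ∀ d ∈ ds, 1 ≤ d) : ∑ K ∈ (Icc 1 ds.sum).powerset, coL ds K = 1 := by
  induction ds with
  | nil =>
    rw [List.sum_nil, Finset.Icc_eq_empty (by omega), Finset.powerset_empty, Finset.sum_singleton, coL_nil, if_pos rfl]
  | cons k ds ih =>
    have hk : 1 ≤ k := hds k (List.mem_cons_self ..)
    have ih' := ih fun d hd => hds d (List.mem_cons_of_mem _ hd)
    rw [List.sum_cons]
    have h1 : ∑ K ∈ (Icc 1 (k + ds.sum)).powerset, coL (k :: ds) K =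
        ∑ K ∈ (Icc 1 (k + ds.sum)).powerset.filter (fun K => k ∈ K), coL (k :: ds) K := by
      rw [Finset.sum_filter_of_ne]
      intro K _ hne
      by_contra h
      exact hne (coL_cons_of_notMem h)
    have h2 : ∀ K ∈ (Icc 1 (k + ds.sum)).powerset.filter (fun K => k ∈ K), coL (k :: ds) K =
        (fun K₁ : Finset ℕ => (-1 : ℤ) ^ K₁.card * ∑ j ∈ Icc 1 k, (if K₁ ⊆ Icc j (k - 1) then (1 : ℤ) else 0))
          (K.filter fun x => x < k) * coL ds ((K.filter fun x => k < x).image fun x => x - k) := by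
      intro K hK
      rw [mem_filter, mem_powerset] at hK
      rw [coL_cons_of_mem hK.2, min'_eq hk hK.2 (fun x hx => (mem_Icc.1 (hK.1 hx)).1)]
    rw [h1, Finset.sum_congr rfl h2]
    refine (sum_split hk (fun K₁ : Finset ℕ => (-1 : ℤ) ^ K₁.card *
      ∑ j ∈ Icc 1 k, (if K₁ ⊆ Icc j (k - 1) then (1 : ℤ) else 0)) (coL ds)).trans ?_
    rw [ih', mul_one]
    exact sum_min hk

/-- the set of ranks contains the top -/
theorem mem_of_coL_ne_zero {ds : List ℕ} (hne : ds ≠ []) {K : Finset ℕ} (hK : K ⊆ Icc 1 ds.sum)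
    (h : coL ds K ≠ 0) : ds.sum ∈ K := by
  induction ds generalizing K with
  | nil => exact absurd rfl hne
  | cons k ds ih =>
    have hk : k ∈ K := by
      by_contra hk
      exact h (coL_cons_of_notMem hk)
    rw [List.sum_cons] at hK ⊢
    by_cases hds : ds = []
    · rw [hds, List.sum_nil, add_zero]
      exact hk
    · rw [coL_cons_of_mem hk] at h
      have h1 := ih hds (K := (K.filter fun x => k < x).image fun x => x - k) (by
        intro y hy
        rw [mem_image] at hy
        obtain ⟨x, hx, rfl⟩ := hy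
        rw [mem_filter] at hx
        have := mem_Icc.1 (hK hx.1)
        rw [mem_Icc]
        omega) (right_ne_zero_of_mul h)
      rw [mem_image] at h1
      obtain ⟨x, hx, hx'⟩ := h1
      rw [mem_filter] at hx
      have : k + ds.sum = x := by omega
      rw [this]
      exact hx.1

/-! ### Chains -/

section poset

variable {P P' : Type*} [PartialOrder P] [PartialOrder P']

/-- the chains above `A` with the ranks `K` -/
def Ch (rk : P → ℕ) (A : P) (K : Finset ℕ) : Type _ :=
  {c : Finset P // IsChain (· ≤ ·) (c : Set P) ∧ (∀ x ∈ c, A < x) ∧ c.image (fun x => rk x - rk A) = K}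

theorem fl_eq (rk : P → ℕ) (A : P) (K : Finset ℕ) : fl rk A K = Nat.card (Ch rk A K) := rfl

theorem chain_map [DecidableEq P] [DecidableEq P'] (e : P ≃o P') {rk : P → ℕ} {rk' : P' → ℕ}
    (h : ∀ x, rk' (e x) = rk x) (A : P) (K : Finset ℕ) (c : Finset P)
    (hc : IsChain (· ≤ ·) (c : Set P) ∧ (∀ x ∈ c, A < x) ∧ c.image (fun x => rk x - rk A) = K) :
    IsChain (· ≤ ·) ((c.map e.toEquiv.toEmbedding : Finset P') : Set P') ∧
      (∀ x ∈ c.map e.toEquiv.toEmbedding, e A < x) ∧
      (c.map e.toEquiv.toEmbedding).image (fun x => rk' x - rk' (e A)) = K := by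
  refine ⟨?_, ?_, ?_⟩
  · rintro x hx y hy hxy
    rw [mem_coe, mem_map] at hx hy
    obtain ⟨a, ha, rfl⟩ := hx
    obtain ⟨b, hb, rfl⟩ := hy
    rcases hc.1 ha hb (fun hab => hxy (by rw [hab])) with h1 | h1
    · exact Or.inl (e.monotone h1)
    · exact Or.inr (e.monotone h1)
  · intro x hx
    rw [mem_map] at hx
    obtain ⟨a, ha, rfl⟩ := hx
    exact e.strictMono (hc.2.1 a ha)
  · rw [← hc.2.2, Finset.map_eq_image, Finset.image_image]
    apply Finset.image_congr
    intro x _
    change rk' (e x) - rk' (e A) = _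
    rw [h, h]

/-- `fl` and order isomorphisms -/
theorem fl_congr (e : P ≃o P') {rk : P → ℕ} {rk' : P' → ℕ} (h : ∀ x, rk' (e x) = rk x) (A : P) (K : Finset ℕ) :
    fl rk' (e A) K = fl rk A K := by
  classical
  rw [fl, fl]
  symm
  refine Nat.card_congr ⟨fun c => ⟨_, chain_map e h A K c.1 c.2⟩, fun c => ⟨c.1.map e.symm.toEquiv.toEmbedding, ?_⟩,
    ?_, ?_⟩
  · have h1 := chain_map e.symm (rk := rk') (rk' := rk) (fun x => by rw [← h, e.apply_symm_apply]) (e A) K c.1 c.2
    rwa [e.symm_apply_apply] at h1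
  · intro c
    apply Subtype.ext
    ext x
    simp
  · intro c
    apply Subtype.ext
    ext x
    simp

/-! ### Fixed points of `q`-groups -/

section act

variable {Γ : Type*} [Group Γ] [MulAction Γ P] [DecidableEq P]

/-- the order isomorphism of `g` -/
def oi (hm : ∀ (g : Γ) (x y : P), x ≤ y → g • x ≤ g • y) (g : Γ) : P ≃o P where
  toEquiv := MulAction.toPerm g
  map_rel_iff' {x y} := ⟨fun h => by
    have := hm g⁻¹ _ _ h
    rwa [MulAction.toPerm_apply, MulAction.toPerm_apply, inv_smul_smul, inv_smul_smul] at this, fun h => hm g _ _ h⟩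

/-- the action on the chains -/
@[reducible]
def chAct (hm : ∀ (g : Γ) (x y : P), x ≤ y → g • x ≤ g • y) {rk : P → ℕ} (hg : ∀ (g : Γ) (x : P), rk (g • x) = rk x)
    {A : P} (hA : ∀ g : Γ, g • A = A) (K : Finset ℕ) : MulAction Γ (Ch rk A K) where
  smul g c := ⟨c.1.map (MulAction.toPerm g).toEmbedding, by
    have h := chain_map (oi hm g) (rk := rk) (rk' := rk) (hg g) A K c.1 c.2
    have e : (oi hm g) A = A := hA g
    rw [e] at h
    exact h⟩
  one_smul c := Subtype.ext (by
    change c.1.map (MulAction.toPerm (1 : Γ)).toEmbedding = c.1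
    ext x
    simp)
  mul_smul g k c := Subtype.ext (by
    change c.1.map (MulAction.toPerm (g * k)).toEmbedding =
      (c.1.map (MulAction.toPerm k).toEmbedding).map (MulAction.toPerm g).toEmbedding
    ext x
    simp [mul_smul])

end act

/-- **fixed points of `q`-groups on chains** -/
theorem fl_modEq [Finite P] {Γ : Type*} [Group Γ] [MulAction Γ P] {q : ℕ} [Fact q.Prime] (hΓ : IsPGroup q Γ)
    (hm : ∀ (g : Γ) (x y : P), x ≤ y → g • x ≤ g • y) {rk : P → ℕ} (hrk : StrictMono rk)
    (hg : ∀ (g : Γ) (x : P), rk (g • x) = rk x) {A : P} (hA : ∀ g : Γ, g • A = A) (K : Finset ℕ) :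
    fl rk A K ≡ fl (fun x : {x : P // ∀ g : Γ, g • x = x} => rk x.1) ⟨A, hA⟩ K [MOD q] := by
  classical
  have : Finite (Ch rk A K) := by
    unfold Ch
    infer_instance
  let _ := chAct hm hg hA K
  have h1 := hΓ.card_modEq_card_fixedPoints (Ch rk A K)
  suffices h2 : Nat.card (MulAction.fixedPoints Γ (Ch rk A K)) =
      fl (fun x : {x : P // ∀ g : Γ, g • x = x} => rk x.1) ⟨A, hA⟩ K by
    rw [fl_eq, ← h2]
    exact h1
  -- fixed chains have fixed members
  have hsm : ∀ (g : Γ) (c : Ch rk A K), (g • c).1 = c.1.map (MulAction.toPerm g).toEmbedding := fun _ _ => rfl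
  have hfix : ∀ c : Ch rk A K, c ∈ MulAction.fixedPoints Γ (Ch rk A K) ↔ ∀ x ∈ c.1, ∀ g : Γ, g • x = x := by
    intro c
    constructor
    · intro hc x hx g
      have h2 : g • x ∈ c.1 := by
        have h3 := congrArg Subtype.val (hc g)
        rw [hsm] at h3
        rw [← h3, mem_map]
        exact ⟨x, hx, rfl⟩
      by_contra hne
      rcases c.2.1 h2 hx hne with h4 | h4
      · exact absurd (hrk (lt_of_le_of_ne h4 hne)) (by rw [hg]; exact lt_irrefl _)
      · exact absurd (hrk (lt_of_le_of_ne h4 (Ne.symm hne))) (by rw [hg]; exact lt_irrefl _)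
    · intro hc g
      apply Subtype.ext
      rw [hsm]
      ext x
      rw [mem_map]
      constructor
      · rintro ⟨y, hy, rfl⟩
        change g • y ∈ c.1
        rw [hc y hy g]
        exact hy
      · intro hx
        exact ⟨x, hx, hc x hx g⟩
  rw [fl]
  refine Nat.card_congr ⟨fun c => ⟨c.1.1.subtype (fun x => ∀ g : Γ, g • x = x), ?_⟩,
    fun c => ⟨⟨c.1.map (Function.Embedding.subtype _), ?_⟩, ?_⟩, ?_, ?_⟩
  · have hc := (hfix c.1).1 c.2
    refine ⟨?_, ?_, ?_⟩
    · intro x hx y hy hxy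
      rw [mem_coe, mem_subtype] at hx hy
      rcases c.1.2.1 hx hy (fun h => hxy (Subtype.ext h)) with h | h
      · exact Or.inl h
      · exact Or.inr h
    · intro x hx
      rw [mem_subtype] at hx
      exact c.1.2.2.1 _ hx
    · refine Eq.trans ?_ c.1.2.2.2
      ext n
      rw [mem_image, mem_image]
      constructor
      · rintro ⟨x, hx, rfl⟩
        rw [mem_subtype] at hx
        exact ⟨x.1, hx, rfl⟩
      · rintro ⟨x, hx, rfl⟩
        exact ⟨⟨x, hc x hx⟩, mem_subtype.2 hx, rfl⟩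
  · refine ⟨?_, ?_, ?_⟩
    · intro x hx y hy hxy
      rw [mem_coe, mem_map] at hx hy
      obtain ⟨a, ha, rfl⟩ := hx
      obtain ⟨b, hb, rfl⟩ := hy
      rcases c.2.1 ha hb (fun hab => hxy (by rw [hab])) with h | h
      · exact Or.inl h
      · exact Or.inr h
    · intro x hx
      rw [mem_map] at hx
      obtain ⟨a, ha, rfl⟩ := hx
      exact c.2.2.1 a ha
    · refine Eq.trans ?_ c.2.2.2
      rw [Finset.map_eq_image, Finset.image_image]
      rfl
  · refine (hfix _).2 ?_
    intro x hx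
    change x ∈ c.1.map (Function.Embedding.subtype _) at hx
    rw [mem_map] at hx
    obtain ⟨a, _, rfl⟩ := hx
    exact a.2
  · intro c
    have hc := (hfix c.1).1 c.2
    apply Subtype.ext
    apply Subtype.ext
    change (c.1.1.subtype _).map (Function.Embedding.subtype _) = c.1.1
    ext x
    rw [mem_map]
    constructor
    · rintro ⟨a, ha, rfl⟩
      rw [mem_subtype] at ha
      exact ha
    · intro hx
      exact ⟨⟨x, hc x hx⟩, mem_subtype.2 hx, rfl⟩
  · intro c
    apply Subtype.ext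
    change (c.1.map (Function.Embedding.subtype _)).subtype _ = c.1
    ext x
    rw [mem_subtype, mem_map]
    constructor
    · rintro ⟨a, ha, h⟩
      have : a = x := Subtype.ext h
      rwa [← this]
    · intro hx
      exact ⟨x, hx, rfl⟩

end poset

end Cfsg.Agent.H675.CC
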